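import Groth.Agent.FlatLib.SliceMore
import Groth.Agent.SweepSix.TensorDomain
import Mathlib

/-!
# Relative effective divisors avoiding finitely many sections
-/

set_option autoImplicit false
set_option linter.style.haveILetI false

universe u

open TensorProduct

namespace RelDivAvoidLib

variable {k : Type u} [Field k]

theorem repr_map {R S A ι : Type u} [CommRing R] [CommRing S] [CommRing A] [Algebra k R] [Algebra k S] [Algebra k A]
    (b : Module.Basis ι k A) (φ : R →ₐ[k] S) (x : R ⊗[k] A) (i : ι) :
    (Algebra.TensorProduct.basis S b).repr (Algebra.TensorProduct.map φ (AlgHom.id k A) x) i =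
      φ ((Algebra.TensorProduct.basis R b).repr x i) := by
  induction x using TensorProduct.induction_on with
  | zero => simp
  | tmul r a => simp [Algebra.TensorProduct.basis_repr_tmul]
  | add x y hx hy => simp [map_add, hx, hy]

theorem lift_natural {R S A : Type u} [CommRing R] [CommRing S] [CommRing A] [Algebra k R] [Algebra k S] [Algebra k A]
    (φ : R →ₐ[k] S) (z : A →ₐ[k] k) (x : R ⊗[k] A) :
    Algebra.TensorProduct.lift (AlgHom.id k S) ((Algebra.ofId k S).comp z) (fun _ _ => Commute.all _ _)
        (Algebra.TensorProduct.map φ (AlgHom.id k A) x) =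
      φ (Algebra.TensorProduct.lift (AlgHom.id k R) ((Algebra.ofId k R).comp z) (fun _ _ => Commute.all _ _) x) := by
  induction x using TensorProduct.induction_on with
  | zero => simp
  | tmul r a => simp [AlgHom.commutes]
  | add x y hx hy => simp [map_add, hx, hy]

theorem ker_le {R A : Type u} [CommRing R] [CommRing A] [Algebra k R] [Algebra k A] (p : PrimeSpectrum R)
    (P : PrimeSpectrum (R ⊗[k] A))
    (hP : PrimeSpectrum.comap (Algebra.TensorProduct.includeLeftRingHom : R →+* R ⊗[k] A) P = p) :
    RingHom.ker (Algebra.TensorProduct.map (IsScalarTower.toAlgHom k R p.asIdeal.ResidueField)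
      (AlgHom.id k A)).toRingHom ≤ P.asIdeal := by
  subst hP
  intro x hx
  let q := P.asIdeal.comap (Algebra.TensorProduct.includeLeftRingHom : R →+* R ⊗[k] A)
  let κ : q.ResidueField →+* P.asIdeal.ResidueField :=
    Ideal.ResidueField.map q P.asIdeal Algebra.TensorProduct.includeLeftRingHom rfl
  have hκ : ∀ r : R, κ (algebraMap R q.ResidueField r) =
      algebraMap (R ⊗[k] A) P.asIdeal.ResidueField (r ⊗ₜ 1) := fun r =>
    Ideal.ResidueField.map_algebraMap _ _ _ _ r
  have hk : ∀ c : k, κ (algebraMap k q.ResidueField c) = algebraMap k P.asIdeal.ResidueField c := fun c => by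
    rw [IsScalarTower.algebraMap_apply k R q.ResidueField, hκ, IsScalarTower.algebraMap_apply k (R ⊗[k] A) P.asIdeal.ResidueField]
    rfl
  let κ' : q.ResidueField →ₐ[k] P.asIdeal.ResidueField := { κ with commutes' := hk }
  let L := Algebra.TensorProduct.lift κ'
    ((IsScalarTower.toAlgHom k (R ⊗[k] A) P.asIdeal.ResidueField).comp Algebra.TensorProduct.includeRight)
    (fun _ _ => Commute.all _ _)
  have hL : ∀ y : R ⊗[k] A, L (Algebra.TensorProduct.map (IsScalarTower.toAlgHom k R q.ResidueField) (AlgHom.id k A) y) =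
      algebraMap (R ⊗[k] A) P.asIdeal.ResidueField y := fun y => by
    induction y using TensorProduct.induction_on with
    | zero => simp
    | tmul r a =>
      have h1 : r ⊗ₜ[k] a = r ⊗ₜ[k] (1 : A) * ((1 : R) ⊗ₜ[k] a) := by simp
      conv_rhs => rw [h1, map_mul, ← hκ]
      simp [L, κ']
    | add x y hx hy => simp [map_add, hx, hy]
  rw [← Ideal.algebraMap_residueField_eq_zero (I := P.asIdeal), ← hL x]
  rw [show Algebra.TensorProduct.map (IsScalarTower.toAlgHom k R q.ResidueField) (AlgHom.id k A) x = 0 from hx,
    map_zero]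

theorem exists_divisor [IsAlgClosed k] (A : Type u) [CommRing A] [Algebra k A] [IsDomain A] [Algebra.FiniteType k A]
    (Z : Finset (A →ₐ[k] k)) (R : Type u) [CommRing R] [Algebra k R]
    (U : TopologicalSpace.Opens (PrimeSpectrum (R ⊗[k] A)))
    (hZ : ∀ z ∈ Z, ∀ q : PrimeSpectrum R,
      PrimeSpectrum.comap (Algebra.TensorProduct.lift (AlgHom.id k R) ((Algebra.ofId k R).comp z)
        (fun _ _ => Commute.all _ _)).toRingHom q ∈ U)
    (hsurj : ∀ q : PrimeSpectrum R, ∃ P ∈ U,
      PrimeSpectrum.comap (Algebra.TensorProduct.includeLeftRingHom : R →+* R ⊗[k] A) P = q)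
    (p : PrimeSpectrum R) :
    ∃ r : R, r ∉ p.asIdeal ∧
      ∃ f : Localization.Away r ⊗[k] A,
        f ∈ nonZeroDivisors (Localization.Away r ⊗[k] A) ∧
        Module.Flat (Localization.Away r) ((Localization.Away r ⊗[k] A) ⧸ Ideal.span {f}) ∧
        (∀ z ∈ Z, IsUnit (Algebra.TensorProduct.lift (AlgHom.id k (Localization.Away r))
          ((Algebra.ofId k (Localization.Away r)).comp z) (fun _ _ => Commute.all _ _) f)) ∧
        (∀ P : PrimeSpectrum (Localization.Away r ⊗[k] A), f ∉ P.asIdeal →
          PrimeSpectrum.comap (Algebra.TensorProduct.map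
            (IsScalarTower.toAlgHom k R (Localization.Away r)) (AlgHom.id k A)).toRingHom P ∈ U) := by
  classical
  obtain ⟨J, hJ⟩ := (PrimeSpectrum.isClosed_iff_zeroLocus_ideal (U : Set (PrimeSpectrum (R ⊗[k] A)))ᶜ).1
    U.isOpen.isClosed_compl
  have hmem : ∀ P : PrimeSpectrum (R ⊗[k] A), P ∈ U ↔ ¬ J ≤ P.asIdeal := fun P => by
    have := Set.ext_iff.1 hJ P
    rw [Set.mem_compl_iff, PrimeSpectrum.mem_zeroLocus] at this
    simp only [SetLike.coe_subset_coe, SetLike.mem_coe] at this
    tauto
  haveI := SweepSix.isDomain_tensor (k := k) p.asIdeal.ResidueField A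
  let ev : (A →ₐ[k] k) → R ⊗[k] A →ₐ[k] R := fun z =>
    Algebra.TensorProduct.lift (AlgHom.id k R) ((Algebra.ofId k R).comp z) (fun _ _ => Commute.all _ _)
  let ψ := Algebra.TensorProduct.map (IsScalarTower.toAlgHom k R p.asIdeal.ResidueField) (AlgHom.id k A)
  obtain ⟨f, hfJ, hf⟩ : ∃ f ∈ J, ψ f ≠ 0 ∧ ∀ z ∈ Z, ev z f ∉ p.asIdeal := by
    by_contra hc
    push Not at hc
    let g : Option (A →ₐ[k] k) → Ideal (R ⊗[k] A) := fun o =>
      o.elim (RingHom.ker ψ.toRingHom) fun z => p.asIdeal.comap (ev z).toRingHom
    have hsub : (J : Set (R ⊗[k] A)) ⊆ ⋃ o ∈ (↑(insert none (Z.map Function.Embedding.some)) : Set (Option (A →ₐ[k] k))),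
        (g o : Set (R ⊗[k] A)) := fun x hx => by
      by_cases h0 : ψ x = 0
      · exact Set.mem_iUnion₂.2 ⟨none, by simp, h0⟩
      · obtain ⟨z, hz, hzx⟩ := hc x hx h0
        exact Set.mem_iUnion₂.2 ⟨some z, by simp [hz], hzx⟩
    obtain ⟨o, ho, hle⟩ := (Ideal.subset_union_prime none none fun o _ _ _ => by
      cases o with
      | none => exact RingHom.ker_isPrime ψ.toRingHom
      | some z => exact Ideal.comap_isPrime _ _).1 hsub
    cases o with
    | none =>
      obtain ⟨P, hPU, hP⟩ := hsurj p
      exact (hmem P).1 hPU (hle.trans (ker_le p P hP))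
    | some z =>
      rw [Finset.mem_insert] at ho
      simp only [reduceCtorEq, Finset.mem_map, Function.Embedding.some_apply, Option.some.injEq, exists_eq_right,
        false_or] at ho
      exact (hmem _).1 (hZ z ho p) hle
  let b := Module.Free.chooseBasis k A
  obtain ⟨i, hi⟩ : ∃ i, (Algebra.TensorProduct.basis R b).repr f i ∉ p.asIdeal := by
    by_contra hc
    push Not at hc
    refine hf.1 ((Algebra.TensorProduct.basis p.asIdeal.ResidueField b).repr.injective (Finsupp.ext fun i => ?_))
    rw [repr_map b (IsScalarTower.toAlgHom k R p.asIdeal.ResidueField) f i, map_zero]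
    exact Ideal.algebraMap_residueField_eq_zero.2 (hc i)
  let r : R := (Algebra.TensorProduct.basis R b).repr f i * ∏ z ∈ Z, ev z f
  have hr : r ∉ p.asIdeal := fun h => by
    rcases p.isPrime.mem_or_mem h with h | h
    · exact hi h
    · obtain ⟨z, hz, h⟩ := p.isPrime.prod_mem_iff.1 h
      exact hf.2 z hz h
  let φ := IsScalarTower.toAlgHom k R (Localization.Away r)
  let f' := Algebra.TensorProduct.map φ (AlgHom.id k A) f
  have hru : IsUnit (algebraMap R (Localization.Away r) r) := IsLocalization.Away.algebraMap_isUnit r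
  haveI : Algebra.FinitePresentation k A := (Algebra.FinitePresentation.of_finiteType).1 inferInstance
  haveI : Algebra.FinitePresentation (Localization.Away r) (Localization.Away r ⊗[k] A) := inferInstance
  haveI : Module.FinitePresentation (Localization.Away r ⊗[k] A) (Localization.Away r ⊗[k] A) := inferInstance
  have hfib : ∀ (q : Ideal (Localization.Away r)) [q.IsPrime],
      IsSMulRegular (((Localization.Away r ⊗[k] A) ⊗[Localization.Away r] q.ResidueField) ⊗[Localization.Away r ⊗[k] A]
        (Localization.Away r ⊗[k] A)) (f' ⊗ₜ[Localization.Away r] (1 : q.ResidueField)) := by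
    intro q _
    haveI := SweepSix.isDomain_tensor (k := k) q.ResidueField A
    let e : (Localization.Away r ⊗[k] A) ⊗[Localization.Away r] q.ResidueField ≃+* q.ResidueField ⊗[k] A :=
      (Algebra.TensorProduct.comm _ _ _).toRingEquiv.trans
        (Algebra.TensorProduct.cancelBaseChange k (Localization.Away r) q.ResidueField q.ResidueField A).toRingEquiv
    have he : ∀ x : Localization.Away r ⊗[k] A, e (x ⊗ₜ[Localization.Away r] (1 : q.ResidueField)) =
        Algebra.TensorProduct.map (IsScalarTower.toAlgHom k (Localization.Away r) q.ResidueField) (AlgHom.id k A) x :=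
      fun x => by
        induction x using TensorProduct.induction_on with
        | zero => simp
        | tmul s a => simp [e, Algebra.algebraMap_eq_smul_one]
        | add x y hx hy => simp only [add_tmul, map_add, hx, hy]
    have hne : e (f' ⊗ₜ[Localization.Away r] (1 : q.ResidueField)) ≠ 0 := fun h => by
      rw [he] at h
      have h' := congrArg (fun v => (Algebra.TensorProduct.basis q.ResidueField b).repr v i) h
      simp only [f', repr_map, map_zero, Finsupp.zero_apply] at h'
      exact (‹q.IsPrime›.ne_top) (Ideal.eq_top_of_isUnit_mem _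
        (Ideal.algebraMap_residueField_eq_zero.1 h') (isUnit_of_mul_isUnit_left ((map_mul φ _ _) ▸ hru)))
    intro x y hxy
    let l := TensorProduct.AlgebraTensorModule.rid (Localization.Away r ⊗[k] A)
      ((Localization.Away r ⊗[k] A) ⊗[Localization.Away r] q.ResidueField)
      ((Localization.Away r ⊗[k] A) ⊗[Localization.Away r] q.ResidueField)
    refine l.injective (e.injective (mul_left_cancel₀ hne ?_))
    have := congrArg (fun v => e (l v)) hxy
    simpa only [map_smul, smul_eq_mul, map_mul] using this
  refine ⟨r, hr, f', ?_, ?_, fun z hz => ?_, fun P hP => ?_⟩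
  · have h : IsSMulRegular (Localization.Away r ⊗[k] A) f' := FlatLib.isSMulRegular_of_fibres (A := Localization.Away r) f' hfib
    exact mem_nonZeroDivisors_iff_right.2 fun x hx => h (by simpa [mul_comm] using hx)
  · have h := FlatLib.flat_quotient_of_fibres (A := Localization.Away r) (M := Localization.Away r ⊗[k] A) f' hfib
    rw [Ideal.smul_eq_mul, Ideal.mul_top] at h
    exact h
  · rw [lift_natural]
    exact isUnit_of_dvd_unit (map_dvd φ ((Finset.dvd_prod_of_mem (fun z => ev z f) hz).trans (dvd_mul_left _ _))) hru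
  · exact (hmem _).2 fun h => hP (h hfJ)

end RelDivAvoidLib
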